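import Groth.Agent.MdlInter.Fibre
import Groth.Agent.Lib.CurvePoint
import Groth.Agent.S0499
import Groth.Agent.DimOne.Basic
import Mathlib.AlgebraicGeometry.ZariskisMainTheorem

/-!
# Preliminaries for horizontal divisors on a model
-/

set_option linter.style.haveILetI false
set_option linter.unusedSectionVars false
set_option backward.isDefEq.respectTransparency false
set_option backward.isDefEq.respectTransparency.types false
set_option maxHeartbeats 1000000

universe u

open CategoryTheory CategoryTheory.Limits AlgebraicGeometry TopologicalSpace IsLocalRing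

noncomputable section

namespace Groth.Agent.MdlHoriz

open Groth.Agent.MdlInter
open Groth.Agent.DepthTwist (stI)

variable {X Y : Scheme.{u}}

/-- The stalks of the inverse image of an ideal sheaf. -/
theorem stI_comap (f : Y ⟶ X) (D : X.IdealSheafData) (U : X.affineOpens) (V : Y.affineOpens)
    (hVU : V.1 ≤ f ⁻¹ᵁ U.1) {y : Y} (hy : y ∈ V.1) :
    stI (D.comap f) V hy = (stI D U (x := f y) (hVU hy)).map (f.stalkMap y).hom := by
  rw [stI, ModPairLib.ideal_comap D f U V hVU, Ideal.map_map, stI, Ideal.map_map]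
  congr 1
  ext a
  simp only [RingHom.comp_apply, Scheme.Hom.appLE]
  rw [Scheme.Hom.germ_stalkMap_apply f U.1 y (hVU hy) a]
  exact TopCat.Presheaf.germ_res_apply Y.presheaf (homOfLE hVU) y hy _

/-- An integral closed subscheme with a given generic point. -/
theorem exists_integral_closed (ξ : X) :
    ∃ (Z : Scheme.{u}) (ι : Z ⟶ X) (_ : IsClosedImmersion ι) (_ : IsIntegral Z), gen ι = ξ := by
  let J : X.IdealSheafData := Scheme.IdealSheafData.vanishingIdeal ⟨closure {ξ}, isClosed_closure⟩
  have hr : Set.range J.subschemeι = closure {ξ} := by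
    rw [J.range_subschemeι]
    rfl
  haveI : IrreducibleSpace J.subscheme := by
    obtain ⟨z, hz⟩ : ξ ∈ Set.range J.subschemeι := hr ▸ subset_closure rfl
    refine (irreducibleSpace_def _).2 ?_
    have h2 : closure ({z} : Set J.subscheme) = Set.univ := by
      rw [J.subschemeι.isClosedEmbedding.isInducing.closure_eq_preimage_closure_image, Set.image_singleton,
        hz, ← hr, Set.preimage_range]
    rw [Set.top_eq_univ, ← h2]
    exact isIrreducible_singleton.closure
  haveI : IsIntegral J.subscheme := isIntegral_of_irreducibleSpace_of_isReduced _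
  refine ⟨J.subscheme, J.subschemeι, inferInstance, inferInstance, ?_⟩
  have h := (range_eq_closure_gen J.subschemeι).symm.trans hr
  exact ((specializes_iff_closure_subset.2 h.ge).antisymm (specializes_iff_closure_subset.2 h.le)).eq

theorem stI_ptIdeal_self (y : Y) (hy : IsClosed ({y} : Set Y)) (V : Y.affineOpens) (hyV : y ∈ V.1) :
    stI (CurvePoint.ptIdeal y hy) V hyV = maximalIdeal (Y.presheaf.stalk y) := by
  haveI : Nonempty (CurvePoint.ptIdeal y hy).subscheme := by
    have hr := (CurvePoint.ptIdeal y hy).range_subschemeι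
    obtain ⟨z, hz⟩ : y ∈ Set.range (CurvePoint.ptIdeal y hy).subschemeι := hr ▸ Set.mem_singleton y
    exact ⟨z⟩
  haveI : Subsingleton (CurvePoint.ptIdeal y hy).subscheme := ⟨fun a b => by
    have hr := (CurvePoint.ptIdeal y hy).range_subschemeι
    refine (CurvePoint.ptIdeal y hy).subschemeι.isClosedEmbedding.injective ?_
    rw [Set.mem_singleton_iff.1 (hr.le ⟨a, rfl⟩), Set.mem_singleton_iff.1 (hr.le ⟨b, rfl⟩)]⟩
  haveI : IrreducibleSpace (CurvePoint.ptIdeal y hy).subscheme :=
    (irreducibleSpace_def _).2 ⟨Set.univ_nonempty, Set.subsingleton_univ.isPreirreducible⟩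
  haveI : IsIntegral (CurvePoint.ptIdeal y hy).subscheme := isIntegral_of_irreducibleSpace_of_isReduced _
  have hg : gen (CurvePoint.ptIdeal y hy).subschemeι = y :=
    Set.mem_singleton_iff.1 ((CurvePoint.ptIdeal y hy).range_subschemeι.le ⟨_, rfl⟩)
  have h := stI_gen (CurvePoint.ptIdeal y hy).subschemeι V (hg.symm ▸ hyV)
  rw [Scheme.IdealSheafData.ker_subschemeι] at h
  generalize hz : gen (CurvePoint.ptIdeal y hy).subschemeι = z at hg h
  subst hg
  exact h

theorem stI_of_not_mem_support (D : X.IdealSheafData) (U : X.affineOpens) {x : X} (hx : x ∈ U.1)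
    (h : x ∉ D.support) : stI D U hx = ⊤ := by
  by_contra hne
  apply h
  rw [Scheme.IdealSheafData.mem_support_iff_of_mem hx, Scheme.mem_zeroLocus_iff]
  intro a ha hmem
  rw [Scheme.mem_basicOpen _ _ _ hx] at hmem
  exact hne (Ideal.eq_top_of_isUnit_mem _ (Ideal.mem_map_of_mem _ ha) hmem)

/-- A domain finite over a complete discrete valuation ring, not killed by the maximal ideal, has two primes. -/
theorem exists_two_primes {R B : Type u} [CommRing R] [IsDomain R] [IsDiscreteValuationRing R]
    [IsAdicComplete (maximalIdeal R) R] [CommRing B] [IsDomain B] (φ : R →+* B) (hφ : φ.Finite)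
    (P₀ : PrimeSpectrum B) (hP₀ : P₀.asIdeal.comap φ ≠ maximalIdeal R) :
    ∃ M : PrimeSpectrum B, M.asIdeal.comap φ = maximalIdeal R ∧
      ∀ P : PrimeSpectrum B, P.asIdeal = ⊥ ∨ P = M := by
  letI := φ.toAlgebra
  haveI : Module.Finite R B := hφ
  haveI : HenselianLocalRing R := HenselianLocalRing.mk fun f hf a₀ h1 h2 => by
    have h2' : IsUnit (Ideal.Quotient.mk (maximalIdeal R) (f.derivative.eval a₀)) := h2.map _
    exact HenselianRing.is_henselian f hf a₀ h1 h2'
  have hcases : ∀ P : PrimeSpectrum B, P.asIdeal.comap φ = ⊥ ∨ P.asIdeal.comap φ = maximalIdeal R := fun P => by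
    by_cases h : P.asIdeal.comap φ = ⊥
    · exact Or.inl h
    · exact Or.inr (IsLocalRing.eq_maximalIdeal (Ideal.IsPrime.isMaximal inferInstance h))
  have hinj : RingHom.ker φ = ⊥ := le_bot_iff.1 fun r hr => by
    rw [← (hcases P₀).resolve_right hP₀]
    show φ r ∈ P₀.asIdeal
    rw [RingHom.mem_ker.1 hr]
    exact zero_mem _
  obtain ⟨J, _, A, _, hloc, ⟨e⟩⟩ := S0499.result R B
  classical
  have hne : Nonempty J := by
    by_contra hJ
    rw [not_nonempty_iff] at hJ
    haveI : Subsingleton (∀ i, A i) := inferInstance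
    exact zero_ne_one (α := B) (e.injective (Subsingleton.elim _ _))
  haveI : Subsingleton J := ⟨fun i j => by
    by_contra hij
    haveI := hloc i
    haveI := hloc j
    have h0 : e.symm (Pi.single i 1) * e.symm (Pi.single j 1) = 0 := by
      rw [← map_mul]
      convert map_zero e.symm
      funext l
      by_cases hl : l = i
      · subst hl; simp [hij]
      · simp [hl]
    rcases mul_eq_zero.1 h0 with h | h
    · have := congrArg e h
      rw [RingEquiv.apply_symm_apply, map_zero] at this
      exact one_ne_zero ((Pi.single_eq_same i (1 : A i)).symm.trans (congrFun this i))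
    · have := congrArg e h
      rw [RingEquiv.apply_symm_apply, map_zero] at this
      exact one_ne_zero ((Pi.single_eq_same j (1 : A j)).symm.trans (congrFun this j))⟩
  obtain ⟨i⟩ := hne
  haveI := hloc i
  letI : Unique J := uniqueOfSubsingleton i
  haveI : IsLocalRing B := (e.trans (RingEquiv.piUnique A)).symm.isLocalRing
  haveI : Algebra.IsIntegral R B := Algebra.IsIntegral.of_finite R B
  refine ⟨IsLocalRing.closedPoint B, ?_, fun P => ?_⟩
  · exact IsLocalRing.eq_maximalIdeal (Ideal.isMaximal_comap_of_isIntegral_of_isMaximal (R := R)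
      (maximalIdeal B))
  · rcases hcases P with h | h
    · exact Or.inl (Ideal.eq_bot_of_comap_eq_bot (R := R) h)
    · refine Or.inr (PrimeSpectrum.ext ?_)
      exact IsLocalRing.eq_maximalIdeal (Ideal.isMaximal_of_isIntegral_of_isMaximal_comap (R := R) P.asIdeal
        (h ▸ IsLocalRing.maximalIdeal.isMaximal R))

/-- An integral scheme, proper over a complete discrete valuation ring, with finite closed fibre and not
contained in it has exactly two points. -/
theorem exists_two_points {R : Type u} [CommRing R] [IsDomain R] [IsDiscreteValuationRing R]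
    [IsAdicComplete (maximalIdeal R) R] {Z : Scheme.{u}} [IsIntegral Z] (q : Z ⟶ Spec (CommRingCat.of R))
    [IsProper q] (hfin : (q ⁻¹' {IsLocalRing.closedPoint R}).Finite)
    (hgen : q (genericPoint Z) ≠ IsLocalRing.closedPoint R) :
    ∃ z₀ : Z, q z₀ = IsLocalRing.closedPoint R ∧ ∀ z : Z, z = genericPoint Z ∨ z = z₀ := by
  obtain ⟨V, hV, hVfin⟩ := exists_isFinite_morphismRestrict_of_finite_preimage_singleton q
    (IsLocalRing.closedPoint R) hfin
  haveI : IsFinite q := by
    refine (IsZariskiLocalAtTarget.iff_of_iSup_eq_top (P := @IsFinite) (fun _ : Unit => V) ?_).2 fun _ => hVfin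
    rw [eq_top_iff]
    intro z _
    exact Opens.mem_iSup.2 ⟨(), (IsLocalRing.specializes_closedPoint z).mem_open V.2 hV⟩
  haveI : IsAffine Z := isAffine_of_isAffineHom q
  obtain ⟨φ, hφ⟩ := Spec.map_surjective (Z.isoSpec.inv ≫ q)
  have hf : φ.hom.Finite := by
    rw [← IsFinite.SpecMap_iff, hφ]
    infer_instance
  haveI : IsDomain Γ(Z, ⊤) := by
    haveI : Nonempty (⊤ : Z.Opens) := ⟨⟨genericPoint Z, trivial⟩⟩
    infer_instance
  have key : ∀ P : PrimeSpectrum Γ(Z, ⊤), (q (Z.isoSpec.inv P) : PrimeSpectrum R).asIdeal = P.asIdeal.comap φ.hom :=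
    fun P => by
      rw [← Scheme.Hom.comp_apply, ← hφ]
      rfl
  obtain ⟨M, hM, hall⟩ := exists_two_primes φ.hom hf (Z.isoSpec.hom (genericPoint Z)) fun h => hgen (by
    apply PrimeSpectrum.ext
    have := (key (Z.isoSpec.hom (genericPoint Z))).trans h
    rw [Scheme.hom_inv_apply] at this
    exact this)
  refine ⟨Z.isoSpec.inv M, PrimeSpectrum.ext ((key M).trans hM), fun z => ?_⟩
  rcases hall (Z.isoSpec.hom z) with h | h
  · left
    have h1 : Z.isoSpec.hom z ⤳ Z.isoSpec.hom (genericPoint Z) :=
      (PrimeSpectrum.le_iff_specializes _ _).1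
        (show (Z.isoSpec.hom z : PrimeSpectrum Γ(Z, ⊤)).asIdeal ≤
          (Z.isoSpec.hom (genericPoint Z) : PrimeSpectrum Γ(Z, ⊤)).asIdeal by rw [h]; exact bot_le)
    have h2 := h1.map Z.isoSpec.inv.continuous
    rw [Scheme.hom_inv_apply, Scheme.hom_inv_apply] at h2
    exact (h2.antisymm (genericPoint_specializes z)).eq
  · right
    rw [← h, Scheme.hom_inv_apply]

end Groth.Agent.MdlHoriz
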