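import Groth.Prelude.Def_Models
import Groth.Agent.FibDim.Comp
import Mathlib.Topology.KrullDimension
import Mathlib.AlgebraicGeometry.Noetherian
import Mathlib.AlgebraicGeometry.Morphisms.UniversallyOpen

/-!
# The closed fibre of a flat model is not bigger than the generic fibre
-/

set_option linter.style.haveILetI false
set_option backward.isDefEq.respectTransparency false
set_option backward.isDefEq.respectTransparency.types false
set_option maxHeartbeats 1000000

universe u

open CategoryTheory CategoryTheory.Limits AlgebraicGeometry TopologicalSpace Topology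

namespace Groth.Agent.MdlHoriz

variable {R : Type u} [CommRing R] [IsDomain R] [IsDiscreteValuationRing R]
  {C X : Scheme.{u}} {f : C ⟶ Spec (CommRingCat.of (FractionRing R))} {p : X ⟶ Spec (CommRingCat.of R)}

theorem topologicalKrullDim_specialFibre_le [IsProper p] [Flat p] (g : C ⟶ X)
    (hg : IsPullback g f p (Spec.map (CommRingCat.ofHom (algebraMap R (FractionRing R))))) :
    topologicalKrullDim ↥(Models.specialFibre R X p) ≤ topologicalKrullDim C := by
  haveI : IsNoetherianRing (CommRingCat.of R) := inferInstanceAs (IsNoetherianRing R)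
  haveI : LocallyOfFinitePresentation p := LocallyOfFinitePresentation.iff_locallyOfFiniteType.2 inferInstance
  let s := Spec.map (CommRingCat.ofHom (algebraMap R (IsLocalRing.ResidueField R)))
  let σ := Spec.map (CommRingCat.ofHom (algebraMap R (FractionRing R)))
  let c : Spec (CommRingCat.of R) := IsLocalRing.closedPoint R
  let η : Spec (CommRingCat.of R) := (⟨⊥, Ideal.isPrime_bot⟩ : PrimeSpectrum R)
  have hc : ∀ w, s w = c := fun w => by
    rw [show w = IsLocalRing.closedPoint (IsLocalRing.ResidueField R) from
      Subsingleton.elim (α := PrimeSpectrum (IsLocalRing.ResidueField R)) _ _]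
    exact IsLocalRing.comap_closedPoint (IsLocalRing.residue R)
  -- the closed fibre
  haveI : IsClosedImmersion s := IsClosedImmersion.spec_of_surjective _ IsLocalRing.residue_surjective
  haveI : IsClosedImmersion (pullback.fst p s) := MorphismProperty.pullback_fst _ _ inferInstance
  have h1 : topologicalKrullDim ↥(Models.specialFibre R X p) ≤ topologicalKrullDim ↥(p.fiber c) := by
    have hmem : ∀ w, pullback.fst p s w ∈ p ⁻¹' {c} := fun w => by
      show p (pullback.fst p s w) = c
      rw [← Scheme.Hom.comp_apply, pullback.condition, Scheme.Hom.comp_apply, hc]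
    have h : IsInducing (Set.codRestrict (pullback.fst p s) _ hmem) :=
      (pullback.fst p s).isClosedEmbedding.isInducing.codRestrict hmem
    exact h.topologicalKrullDim_le.trans (p.fiberHomeo c).symm.isInducing.topologicalKrullDim_le
  -- the generic fibre
  have h2 : topologicalKrullDim ↥(p.fiber η) ≤ topologicalKrullDim C := by
    obtain ⟨ϖ, hϖ⟩ := IsDiscreteValuationRing.exists_irreducible R
    have hrange : ∀ z, p z = η → z ∈ Set.range g := fun z hz => by
      obtain ⟨w, hw, -⟩ := Scheme.Pullback.exists_preimage_pullback (f := p) (g := σ) z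
        (IsLocalRing.closedPoint (FractionRing R)) (by
          rw [hz]
          refine (PrimeSpectrum.ext ?_).symm
          show Ideal.comap (algebraMap R (FractionRing R)) (IsLocalRing.maximalIdeal (FractionRing R)) = ⊥
          rw [IsLocalRing.maximalIdeal_eq_bot]
          exact Ideal.comap_bot_of_injective _ (IsFractionRing.injective R (FractionRing R)))
      exact ⟨hg.isoPullback.inv w, by rw [← hw, ← Scheme.Hom.comp_apply, hg.isoPullback_inv_fst]⟩
    haveI : IsPreimmersion σ := IsPreimmersion.of_isLocalization (nonZeroDivisors R)
    haveI : IsPreimmersion g := MorphismProperty.of_isPullback hg.flip (inferInstanceAs (IsPreimmersion σ))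
    let e := g.isEmbedding.toHomeomorph
    have hmem : ∀ w, p.fiberι η w ∈ Set.range g := fun w => hrange _ (by
      have : p.fiberι η w ∈ p ⁻¹' {η} := p.range_fiberι η ▸ ⟨w, rfl⟩
      exact this)
    have h : IsInducing (Set.codRestrict (p.fiberι η) _ hmem) :=
      (p.fiberι η).isEmbedding.isInducing.codRestrict hmem
    exact h.topologicalKrullDim_le.trans e.symm.isInducing.topologicalKrullDim_le
  refine h1.trans (le_trans (FibDim.topologicalKrullDim_fiber_mono p fun z hz => ?_) h2)
  obtain ⟨ζ, -, hζ, hle⟩ := FibDim.exists_generization_rd_ge p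
    (fun U hU => p.isOpenMap.image_mem_nhds hU)
    (y' := η) ((PrimeSpectrum.le_iff_specializes η (p z)).1 (bot_le (α := Ideal R)))
  exact ⟨ζ, hζ, hle⟩

end Groth.Agent.MdlHoriz
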