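import Groth.Agent.MdlHoriz.Pic
import Groth.Agent.MdlInter.Thick
import Groth.Agent.MdlInter.Torsion
import Groth.Agent.LineLift.System
import Groth.Agent.Algz7.AlgInvertible
import Groth.Agent.S11968
import Groth.Prelude.Def_Formal2

/-!
# Divisibility of classes trivial on the closed fibre
-/

set_option linter.style.haveILetI false
set_option linter.unusedSectionVars false
set_option backward.isDefEq.respectTransparency false
set_option backward.isDefEq.respectTransparency.types false
set_option maxHeartbeats 1000000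

universe u

open CategoryTheory CategoryTheory.Limits AlgebraicGeometry TopologicalSpace
open Groth.Agent.H23.PicMul
open scoped Groth.Agent.H23.PicMul

noncomputable section

namespace Groth.Agent.MdlHoriz

open Groth.Agent

/-- A root of a class through a square-zero thickening. -/
theorem exists_root_of_squareZero {T : Scheme.{u}} (I : T.IdealSheafData) (hI : I * I = ⊥) (q : ℕ)
    (hq : IsUnit (q : Γ(T, ⊤))) {c e : PicF.Cl T} (hc : PicF.IsInvertibleCl c) (he : PicF.IsInvertibleCl e)
    (h : H23.PicMul.pullHom I.subschemeι (e ^ q) = H23.PicMul.pullHom I.subschemeι c) :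
    ∃ d : PicF.Cl T, PicF.IsInvertibleCl d ∧ d ^ q = c ∧
      H23.PicMul.pullHom I.subschemeι d = H23.PicMul.pullHom I.subschemeι e := by
  letI := H23.PicMul.law T
  letI := H23.PicMul.law I.subscheme
  obtain ⟨ε, δ₀, α, δ₁, -, -, -, -, hker, -⟩ := S15400.result T I hI (H23.PicMul.pullMul _)
  let a : PicLoc.PicSet T := ⟨c, hc⟩
  let b : PicLoc.PicSet T := ⟨e, he⟩
  have hval : ∀ (z : PicLoc.PicSet T) (n : ℕ), (z ^ n).1 = z.1 ^ n := by
    intro z n
    induction n with
    | zero => rw [pow_zero, pow_zero]; rfl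
    | succ n ih => rw [pow_succ, pow_succ, ← ih]; rfl
  let P := PicGrp.pullHom I.subschemeι (H23.PicMul.pullMul I.subschemeι)
  have hab : P a = P (b ^ q) := by
    refine Subtype.ext ?_
    show H23.PicMul.pullHom I.subschemeι c = H23.PicMul.pullHom I.subschemeι (b ^ q).1
    rw [hval]
    exact h.symm
  have hk : a * (b ^ q)⁻¹ ∈ P.ker := by rw [MonoidHom.mem_ker, map_mul, map_inv, hab, mul_inv_cancel]
  rw [hker] at hk
  obtain ⟨x, hx⟩ := hk
  have hu : IsUnit (q : Coh.Γtop T) := hq
  let y : Multiplicative (Coh.HH T (ClSub.idealMod I) 1) :=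
    Multiplicative.ofAdd ((↑hu.unit⁻¹ : Coh.Γtop T) • Multiplicative.toAdd x)
  have hy : y ^ q = x := by
    apply Multiplicative.toAdd.injective
    rw [toAdd_pow, toAdd_ofAdd, ← Nat.cast_smul_eq_nsmul (Coh.Γtop T), smul_smul, IsUnit.mul_val_inv, one_smul]
  refine ⟨(b * α y).1, (b * α y).2, ?_, ?_⟩
  · rw [← hval, mul_pow, ← map_pow, hy, hx, mul_comm a, mul_inv_cancel_left]
  · have h1 : α y ∈ P.ker := by rw [hker]; exact ⟨y, rfl⟩
    show (P (b * α y)).1 = (P b).1
    rw [map_mul, MonoidHom.mem_ker.1 h1, mul_one]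

/-- The same through any closed immersion with square-zero kernel. -/
theorem exists_root_of_closedImmersion {Z T : Scheme.{u}} (i : Z ⟶ T) [IsClosedImmersion i]
    (hI : i.ker * i.ker = ⊥) (q : ℕ) (hq : IsUnit (q : Γ(T, ⊤))) {c e : PicF.Cl T} (hc : PicF.IsInvertibleCl c)
    (he : PicF.IsInvertibleCl e) (h : H23.PicMul.pullHom i (e ^ q) = H23.PicMul.pullHom i c) :
    ∃ d : PicF.Cl T, PicF.IsInvertibleCl d ∧ d ^ q = c ∧
      H23.PicMul.pullHom i d = H23.PicMul.pullHom i e := by
  have key : ∀ z : PicF.Cl T,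
      H23.PicMul.pullHom i z = PicF.pullCl i.toImage (H23.PicMul.pullHom i.ker.subschemeι z) := fun z => by
    show PicF.pullCl i z = PicF.pullCl i.toImage (PicF.pullCl i.ker.subschemeι z)
    rw [← PicLoc.pullCl_comp]
    exact congrArg (PicF.pullCl · z) i.toImage_imageι.symm
  have hinj : Function.Injective (PicF.pullCl i.toImage) := fun a b hab => by
    have h1 := congrArg (PicF.pullCl (inv i.toImage)) hab
    rwa [← PicLoc.pullCl_comp, ← PicLoc.pullCl_comp, IsIso.inv_hom_id, PicLoc.pullCl_id, PicLoc.pullCl_id] at h1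
  obtain ⟨d, hd, hdq, hdp⟩ := exists_root_of_squareZero i.ker hI q hq hc he
    (hinj (by rw [← key, ← key, h]))
  exact ⟨d, hd, hdq, by rw [key, key, hdp]⟩

variable {R : Type u} [CommRing R] [IsDomain R] [IsDiscreteValuationRing R]
  [IsAdicComplete (IsLocalRing.maximalIdeal R) R] {X : Scheme.{u}} (p : X ⟶ Spec (CommRingCat.of R))

/-- The first thickening is the closed fibre. -/
theorem exists_iso_thick_zero :
    ∃ e : pullback p (Spec.map (CommRingCat.ofHom (IsLocalRing.residue R))) ≅ CohB1.thick p (IsLocalRing.maximalIdeal R) 0,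
      e.hom ≫ CohB1.thickι p (IsLocalRing.maximalIdeal R) 0 =
        pullback.fst p (Spec.map (CommRingCat.ofHom (IsLocalRing.residue R))) := by
  let m := IsLocalRing.maximalIdeal R
  have h1 : m ^ (0 + 1) = m := by rw [zero_add, pow_one]
  let ε := Ideal.quotEquivOfEq h1
  have hε : Spec.map (CommRingCat.ofHom (IsLocalRing.residue R)) =
      Spec.map (CommRingCat.ofHom ε.toRingHom) ≫ CohB1.specQuot m 0 := by
    rw [CohB1.specQuot, ← Spec.map_comp, ← CommRingCat.ofHom_comp]
    congr 2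
  haveI : IsIso (CommRingCat.ofHom ε.toRingHom) := ε.toCommRingCatIso.isIso_hom
  let e : pullback p (Spec.map (CommRingCat.ofHom (IsLocalRing.residue R))) ⟶ CohB1.thick p m 0 :=
    pullback.map _ _ _ _ (𝟙 X) (Spec.map (CommRingCat.ofHom ε.toRingHom)) (𝟙 _) (by simp) ((Category.comp_id _).trans hε)
  haveI : IsIso e := pullback.map_isIso _ _ _ _ _ _ _ _ _
  exact ⟨asIso e, (pullback.lift_fst _ _ _).trans (Category.comp_id _)⟩

variable [IsProper p] [Flat p]

/-- A class trivial on the closed fibre has a root trivial there. -/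
theorem exists_root (h2 : Subsingleton (Coh.HH (pullback p (Spec.map (CommRingCat.ofHom (IsLocalRing.residue R))))
      (Coh.structureModule _) 2)) (q : ℕ) (hqR : IsUnit (q : R)) {c : PicF.Cl X} (hc : PicF.IsInvertibleCl c)
    (hc0 : H23.PicMul.pullHom (pullback.fst p (Spec.map (CommRingCat.ofHom (IsLocalRing.residue R)))) c = 1) :
    ∃ d : PicF.Cl X, PicF.IsInvertibleCl d ∧ d ^ q = c ∧
      H23.PicMul.pullHom (pullback.fst p (Spec.map (CommRingCat.ofHom (IsLocalRing.residue R)))) d = 1 := by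
  letI : X.Over (Spec (CommRingCat.of R)) := ⟨p⟩
  haveI : IsProper (X ↘ Spec (CommRingCat.of R)) := ‹IsProper p›
  let m := IsLocalRing.maximalIdeal R
  let Xs := CohB1.thick p m
  let fs := CohB1.thickToBase p m
  let ts := CohB1.thickTrans p m
  let w := CohB1.thickι p m
  have hw : ∀ n, ts n ≫ w (n + 1) = w n := fun n => by
    exact (pullback.lift_fst _ _ _).trans (Category.comp_id _)
  have big : ∀ n, IsPullback (w n) (fs n) p (CohB1.specQuot m n) := fun n => IsPullback.of_hasPullback _ _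
  have cart : ∀ n, IsPullback (ts n) (fs n) (fs (n + 1)) (CohB1.specQuotTrans m n) := fun n => by
    refine IsPullback.of_right ?_ ?_ (big (n + 1))
    · rw [hw n, CohB1.specQuotTrans_specQuot]
      exact big n
    · exact pullback.lift_snd _ _ _
  have hflat : ∀ n, Flat (fs n) := fun n => MorphismProperty.of_isPullback (big n) ‹Flat p›
  haveI : (Xs 0).IsSeparated := by
    haveI : IsSeparated (w 0 ≫ p ≫ terminal.from _) := by
      haveI : IsClosedImmersion (w 0) :=
        MorphismProperty.of_isPullback (big 0).flip (AmpleVan.AdicSys.closed_specQuot m 0)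
      haveI : IsSeparated (terminal.from (Spec (CommRingCat.of R))) := inferInstance
      infer_instance
    exact ⟨by rwa [terminal.comp_from, terminal.comp_from] at this⟩
  obtain ⟨e₀, he₀⟩ := exists_iso_thick_zero p
  have h2' : Subsingleton (Coh.HH (Xs 0) (Coh.structureModule _) 2) := by
    have hb : ∀ U, Function.Bijective (e₀.hom.app U) := fun U =>
      (ConcreteCategory.isIso_iff_bijective _).1 inferInstance
    haveI := PnCoh.isQCoh_structureModule (pullback p (Spec.map (CommRingCat.ofHom (IsLocalRing.residue R))))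
    obtain ⟨a⟩ := S0012.result e₀.hom (Coh.structureModule _) 2
    haveI := h2
    exact QCoh.subsingleton_HH_of_iso (H23.PullPush.structureModuleIsoPush e₀.hom hb).symm 2
      a.symm.toEquiv.subsingleton
  have hqT : ∀ n, IsUnit (q : Γ(Xs n, ⊤)) := fun n => by
    have h := hqR.map (Coh.toGlobal (w n ≫ p))
    rwa [map_natCast] at h
  have step : ∀ n (L : {L : PicF.Cl (Xs n) // PicF.IsInvertibleCl L ∧ L ^ q = H23.PicMul.pullHom (w n) c}),
      ∃ L' : PicF.Cl (Xs (n + 1)), PicF.IsInvertibleCl L' ∧ L' ^ q = H23.PicMul.pullHom (w (n + 1)) c ∧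
        H23.PicMul.pullHom (ts n) L' = L.1 := by
    rintro n ⟨L, hL, hLq⟩
    obtain ⟨M, rfl, hM⟩ := hL
    obtain ⟨j, hj⟩ := LineLift.exists_sq₀ R cart (n + 1)
    haveI := hflat (n + 1)
    haveI := LineLift.isMaximal_ker R (Nat.succ_le_succ (Nat.zero_le (n + 1)))
    haveI := LineLift.isSeparated R cart hflat (n + 1)
    have hle : RingHom.ker (LineLift.fac R (Nat.le_succ (n + 1))) ≤
        RingHom.ker (LineLift.fac R (Nat.succ_le_succ (Nat.zero_le (n + 1)))) := by
      rw [LineLift.ker_fac, LineLift.ker_fac]; exact Ideal.map_mono (Ideal.pow_le_pow_right (by omega))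
    obtain ⟨hi, hI, -⟩ := LineLift.step_aux _ _ (fs (n + 1)) (LineLift.fac_surjective R (Nat.le_succ (n + 1)))
      (LineLift.fac_surjective R (Nat.succ_le_succ (Nat.zero_le (n + 1)))) hle
      (LineLift.ker_mul_ker R _ _) (cart n) hj
    haveI := hi
    obtain ⟨M', hM', ⟨a⟩⟩ := LineLift.exists_lift_step _ _ (fs (n + 1))
      (LineLift.fac_surjective R (Nat.le_succ (n + 1)))
      (LineLift.fac_surjective R (Nat.succ_le_succ (Nat.zero_le (n + 1)))) hle
      (LineLift.ker_mul_ker R _ _) (cart n) hj h2' M hM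
    have ha : H23.PicMul.pullHom (ts n) (PicF.cl M') = PicF.cl M := cl_eq_iff.2 ⟨a⟩
    obtain ⟨d, hd, hdq, hdp⟩ := exists_root_of_closedImmersion (ts n) (by rw [← pow_two]; exact hI) q (hqT (n + 1))
      (c := H23.PicMul.pullHom (w (n + 1)) c) (PicLoc.isInvertibleCl_pullCl _ hc) (e := PicF.cl M')
      ⟨M', rfl, hM'⟩ (by
        rw [map_pow, ha, hLq]
        show PicF.pullCl (w n) c = PicF.pullCl (ts n) (PicF.pullCl (w (n + 1)) c)
        rw [← PicLoc.pullCl_comp, hw n])
    exact ⟨d, hd, hdq, hdp.trans ha⟩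
  have base : H23.PicMul.pullHom (w 0) c = 1 := by
    have h : PicF.pullCl e₀.inv (PicF.pullCl (pullback.fst p (Spec.map (CommRingCat.ofHom (IsLocalRing.residue R)))) c) =
        PicF.pullCl (w 0) c := by
      rw [← PicLoc.pullCl_comp, ← he₀, Iso.inv_hom_id_assoc]
    refine h.symm.trans ?_
    show H23.PicMul.pullHom e₀.inv (H23.PicMul.pullHom _ c) = 1
    rw [hc0, map_one]
  choose L' hL' hL'q hL'p using step
  let Ls : ∀ n, {L : PicF.Cl (Xs n) // PicF.IsInvertibleCl L ∧ L ^ q = H23.PicMul.pullHom (w n) c} :=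
    fun n => Nat.rec (motive := fun n => {L : PicF.Cl (Xs n) // PicF.IsInvertibleCl L ∧ L ^ q = H23.PicMul.pullHom (w n) c})
      ⟨1, ⟨_, rfl, CurveDeg.isInvertible_structureModule⟩, by rw [one_pow, base]⟩
      (fun n L => ⟨L' n L, hL' n L, hL'q n L⟩) n
  choose M hMcl hM using fun n => (Ls n).2.1
  let S : AmpleVan.AdicSys R m := ⟨Xs, fs, ts, cart⟩
  obtain ⟨D, hD, hpull⟩ := Algz7.exists_algebraization_invertible m S w big (fun n => (hw n).symm) M hM
    fun n => (cl_eq_iff.1 (by
      show H23.PicMul.pullHom (ts n) (PicF.cl (M (n + 1))) = PicF.cl (M n)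
      rw [hMcl, hMcl]
      exact hL'p n (Ls n))).some
  refine ⟨PicF.cl D, ⟨D, rfl, hD⟩, ?_, ?_⟩
  · obtain ⟨N, rfl, hN⟩ := hc
    obtain ⟨N', hN', ⟨eN⟩⟩ := H23.PicInv.exists_inverse hN
    have h1 : PicF.cl N * PicF.cl N' = 1 := by rw [← cl_tensor, H23.PicMul.one_def]; exact cl_eq_iff.2 ⟨eN⟩
    have h3 : PicF.cl (CohB1.tensorMod (CohB1.tensorPow D q) N') = 1 := by
      rw [H23.PicMul.one_def]
      refine cl_eq_iff.2 (S11968.result R m le_rfl p _
        (InvX.isInvertible_tensorMod (InvX.isInvertible_tensorPow hD q) hN') fun n => cl_eq_iff.1 ?_)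
      show H23.PicMul.pullHom (w n) (PicF.cl (CohB1.tensorMod (CohB1.tensorPow D q) N')) = _
      obtain ⟨b⟩ := hpull n
      have hb : H23.PicMul.pullHom (w n) (PicF.cl D) = (Ls n).1 := (cl_eq_iff.2 ⟨b⟩).trans (hMcl n)
      rw [cl_tensor, cl_tensorPow, map_mul, map_pow, hb, (Ls n).2.2, ← map_mul, h1, map_one, H23.PicMul.one_def]
      rfl
    rw [cl_tensor, cl_tensorPow] at h3
    calc PicF.cl D ^ q = PicF.cl D ^ q * (PicF.cl N' * PicF.cl N) := by rw [mul_comm (PicF.cl N'), h1, mul_one]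
      _ = PicF.cl N := by rw [← mul_assoc, h3, one_mul]
  · obtain ⟨b⟩ := hpull 0
    have hb : H23.PicMul.pullHom (w 0) (PicF.cl D) = 1 := (cl_eq_iff.2 ⟨b⟩).trans (hMcl 0)
    show PicF.pullCl _ (PicF.cl D) = 1
    rw [← he₀, PicLoc.pullCl_comp]
    show H23.PicMul.pullHom e₀.hom (H23.PicMul.pullHom (w 0) (PicF.cl D)) = 1
    rw [hb, map_one]

end Groth.Agent.MdlHoriz
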