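import Groth.Agent.MdlHoriz.Pre
import Groth.Agent.MdlInter.Combo
import Groth.Agent.CurveVA.Sky
import Groth.Agent.NefCurve.RegPoints
import Groth.Agent.KRR7.RegPd
import Groth.Agent.H23.StalkPrimes

/-!
# A horizontal divisor meeting exactly one component in one point
-/

set_option linter.style.haveILetI false
set_option linter.unusedSectionVars false
set_option backward.isDefEq.respectTransparency false
set_option backward.isDefEq.respectTransparency.types false
set_option maxHeartbeats 1000000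

universe u

open CategoryTheory CategoryTheory.Limits AlgebraicGeometry TopologicalSpace
open Groth.Agent.H23.PicMul
open scoped Groth.Agent.H23.PicMul

noncomputable section

namespace Groth.Agent.MdlInter

open Groth.Agent
open Groth.Agent.DepthTwist (stI)

variable {R : Type u} [CommRing R] [IsDomain R] [IsDiscreteValuationRing R]
  {X : Scheme.{u}} {p : X ⟶ Spec (CommRingCat.of R)}

/-- The immersion of a vertical curve. -/
abbrev iotaC (G : ArSurf.VertComp R (Over.mk p)) : G.curve.left ⟶ X := G.ι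

theorem maximalIdeal_eq_map {z ξ : X} (h : ξ ⤳ z) :
    IsLocalRing.maximalIdeal (X.presheaf.stalk ξ) =
      (CDiv6.primeOf h).asIdeal.map (X.presheaf.stalkSpecializes h).hom := by
  letI := (X.presheaf.stalkSpecializes h).hom.toAlgebra
  haveI := H23.StalkPrimes.isLocalization_primeOf h
  exact (IsLocalization.AtPrime.map_eq_maximalIdeal (CDiv6.primeOf h).asIdeal _).symm

theorem closed_preimage_finite [IsProper p] (G : ArSurf.VertComp R (Over.mk p)) {T : Set G.curve.left}
    (hT : IsClosed T) (hgen : genericPoint G.curve.left ∉ T) : T.Finite := by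
  haveI : IsProper (G.curve.left ↘ Spec (CommRingCat.of (IsLocalRing.ResidueField R))) := isProper_curve G
  haveI := CurveCohLib.isNoetherian_of_proper (k := IsLocalRing.ResidueField R) (X := G.curve.left)
  refine DimOne.finite_of_forall_not_isGen G.dim_eq.le hT fun z hz hzgen => hgen ?_
  rwa [hzgen (genericPoint _) (genericPoint_specializes z)]

theorem curveDeg_point [IsProper p] [IsAlgClosed (IsLocalRing.ResidueField R)]
    (G : ArSurf.VertComp R (Over.mk p)) {y : G.curve.left} (hy : IsClosed ({y} : Set G.curve.left))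
    {D : G.curve.left.IdealSheafData} (hD : BlowUp.IsEffCartierIdeal D) (hDy : D = CurvePoint.ptIdeal y hy)
    {L : G.curve.left.Modules} (hL : PicF.IsInvertible L) (hLD : ClSub.IsInverseOf L (ClSub.idealMod D)) :
    ArSurf.curveDeg (IsLocalRing.ResidueField R) G.curve.left L = 1 := by
  haveI : IsProper (G.curve.left ↘ Spec (CommRingCat.of (IsLocalRing.ResidueField R))) := isProper_curve G
  haveI := CurveCohLib.isNoetherian_of_proper (k := IsLocalRing.ResidueField R) (X := G.curve.left)
  obtain ⟨hf, hdeg⟩ := curveDeg_divisor (IsLocalRing.ResidueField R) G.dim_eq hD hL hLD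
  rw [hdeg]
  have hC : Coh.IsCoh (ClSub.quotMod D) := ParShLib.isCoh_quotMod D
  have hpt : ∀ z ∈ CohB1.support (ClSub.quotMod D), IsClosed ({z} : Set G.curve.left) := by
    subst hDy
    exact fun z hz => Set.mem_singleton_iff.1 (CurvePoint.support_quot_subset y hy hz) ▸ hy
  have h := (CurveCohLib.euler_eq_finrank_zero (k := IsLocalRing.ResidueField R) hC hpt).symm.trans
    (hDy ▸ CurveVA.euler_quot_pt (IsLocalRing.ResidueField R) hy)
  exact h

namespace Setting

variable {n : ℕ} {Γ : Fin n → ArSurf.VertComp R (Over.mk p)} (S : Setting p Γ)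
include S

theorem injective_specializes {z ξ : X} (h : ξ ⤳ z) :
    Function.Injective (X.presheaf.stalkSpecializes h).hom := by
  haveI := S.isDomain_stalk z
  letI := (X.presheaf.stalkSpecializes h).hom.toAlgebra
  haveI := H23.StalkPrimes.isLocalization_primeOf h
  exact IsLocalization.injective (M := (CDiv6.primeOf h).asIdeal.primeCompl) (X.presheaf.stalk ξ)
    fun a ha => mem_nonZeroDivisors_of_ne_zero fun h0 => ha (by rw [h0]; exact zero_mem _)

theorem exists_point_on [IsProper p] (i : Fin n) :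
    ∃ y : (Γ i).curve.left, IsClosed ({y} : Set (Γ i).curve.left) ∧
      IsDiscreteValuationRing ((Γ i).curve.left.presheaf.stalk y) ∧
      ∀ j, gp Γ j ⤳ iotaC (Γ i) y → j = i := by
  classical
  let Y := (Γ i).curve.left
  haveI : IsProper (Y ↘ Spec (CommRingCat.of (IsLocalRing.ResidueField R))) := isProper_curve (Γ i)
  obtain ⟨U, hU, hreg⟩ := NefCurve.exists_regular_open (IsLocalRing.ResidueField R) (X := Y) (Γ i).dim_eq
  let T : Set Y := iotaC (Γ i) ⁻¹' ⋃ j ∈ {j | j ≠ i}, Set.range (iotaC (Γ j))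
  have hT : IsClosed T := ((Set.toFinite _).isClosed_biUnion fun j _ =>
    (iotaC (Γ j)).isClosedEmbedding.isClosed_range).preimage (iotaC (Γ i)).continuous
  have hgen : genericPoint Y ∉ T := by
    intro h
    obtain ⟨j, hj, hmem⟩ := Set.mem_iUnion₂.1 h
    exact hj (S.eq_of_specializes ((mem_range_iff (iotaC (Γ j))).1 hmem))
  haveI : JacobsonSpace Y := LocallyOfFiniteType.jacobsonSpace (Y ↘ Spec (CommRingCat.of (IsLocalRing.ResidueField R)))
  obtain ⟨y, hy, hyc⟩ := nonempty_inter_closedPoints (X := Y) (Z := (U : Set Y) ∩ Tᶜ) ⟨_, hU, hgen⟩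
    (U.2.inter hT.isOpen_compl).isLocallyClosed
  refine ⟨y, hyc, ?_, fun j hj => ?_⟩
  · haveI := hreg y hy.1 hyc
    have hd : ringKrullDim (Y.presheaf.stalk y) = 1 :=
      (SmoothReg.ringKrullDim_stalk_closedPoint (Y ↘ Spec (CommRingCat.of (IsLocalRing.ResidueField R))) hyc).trans
        (Γ i).dim_eq
    refine IsLocalRing.finrank_CotangentSpace_eq_one_iff.mp ?_
    have hreg' := hreg y hy.1 hyc
    rw [IsRegularLocalRing.iff_finrank_cotangentSpace, hd] at hreg'
    exact_mod_cast hreg'
  · by_contra hne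
    exact hy.2 (Set.mem_iUnion₂.2 ⟨j, hne, (mem_range_iff (iotaC (Γ j))).2 hj⟩)

/-- An element of a local ring restricting to a uniformiser of the component is a prime avoiding the closed fibre. -/
theorem exists_prime_transversal {ϖ : R} (hϖ : IsLocalRing.maximalIdeal R = Ideal.span {ϖ}) (hϖ0 : ϖ ≠ 0)
    {i : Fin n} {y : (Γ i).curve.left} [IsDiscreteValuationRing ((Γ i).curve.left.presheaf.stalk y)]
    (hj : ∀ j, gp Γ j ⤳ iotaC (Γ i) y → j = i) :
    ∃ t : X.presheaf.stalk (iotaC (Γ i) y), Prime t ∧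
      (Ideal.span {t}).map ((iotaC (Γ i)).stalkMap y).hom = IsLocalRing.maximalIdeal _ ∧
      pi p ϖ (iotaC (Γ i) y) ∉ Ideal.span {t} := by
  let ι := iotaC (Γ i)
  let x := ι y
  let φ := (ι.stalkMap y).hom
  haveI := S.isDomain_stalk x
  haveI := S.ufm_stalk x
  haveI := S.reg x
  obtain ⟨U, hxU⟩ := exists_affine x
  obtain ⟨c, hc0, hc⟩ := S.exists_span hϖ hϖ0 U hxU i
  have hsurj : Function.Surjective φ := ι.stalkMap_surjective y
  have hker : RingHom.ker φ = Ideal.span {c} := (KRR7.ker_stalkMap_eq ι U.2 y hxU).trans hc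
  obtain ⟨t₀, ht₀⟩ := IsDiscreteValuationRing.exists_irreducible ((Γ i).curve.left.presheaf.stalk y)
  obtain ⟨t, rfl⟩ := hsurj t₀
  have hφt : φ t ≠ 0 := ht₀.ne_zero
  have hnu : ¬ IsUnit t := fun h => ht₀.not_isUnit (h.map φ)
  have hirr : Irreducible t := ⟨hnu, fun a b hab => by
    rcases ht₀.isUnit_or_isUnit (show φ t = φ a * φ b by rw [hab, map_mul]) with h | h
    · exact Or.inl (isUnit_of_map_unit φ _ h)
    · exact Or.inr (isUnit_of_map_unit φ _ h)⟩
  have hprime : Prime t := UniqueFactorizationMonoid.irreducible_iff_prime.1 hirr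
  refine ⟨t, hprime, ?_, fun hpi => ?_⟩
  · rw [Ideal.map_span, Set.image_singleton]
    exact ht₀.maximalIdeal_eq.symm
  · haveI : (Ideal.span {t}).IsPrime := (Ideal.span_singleton_prime hprime.ne_zero).2 hprime
    obtain ⟨j, hjp, hle⟩ := @exists_le_prime _ _ _ _ _ _ _ _ S _ hϖ U x hxU (Ideal.span {t}) inferInstance hpi
    obtain rfl := hj j (S.specializes_of_prime U hxU hjp)
    rw [hc] at hle
    obtain ⟨a, ha⟩ := Ideal.mem_span_singleton.1 (hle (Ideal.mem_span_singleton_self c))
    have h1 : φ t * φ a = 0 := by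
      rw [← map_mul, ← ha]
      exact RingHom.mem_ker.1 (hker ▸ Ideal.mem_span_singleton_self c)
    have h2 : a ∈ RingHom.ker φ := (mul_eq_zero.1 h1).resolve_left hφt
    rw [hker, Ideal.mem_span_singleton] at h2
    obtain ⟨b, hb⟩ := h2
    refine hnu (IsUnit.of_mul_eq_one b ?_)
    rw [hb] at ha
    exact mul_left_cancel₀ hc0 (by linear_combination -ha)

/-- A horizontal integral curve through a closed point of one component only. -/
theorem exists_horizontal [IsProper p] [IsAdicComplete (IsLocalRing.maximalIdeal R) R] {i : Fin n}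
    {y : (Γ i).curve.left} [IsDiscreteValuationRing ((Γ i).curve.left.presheaf.stalk y)]
    (hyc : IsClosed ({y} : Set (Γ i).curve.left))
    (hj : ∀ j, gp Γ j ⤳ iotaC (Γ i) y → j = i) :
    ∃ D : X.IdealSheafData, BlowUp.IsEffCartierIdeal D ∧
      (∀ j : Fin n, j ≠ i → D.comap (iotaC (Γ j)) = ⊤) ∧
      D.comap (iotaC (Γ i)) = CurvePoint.ptIdeal y hyc := by
  obtain ⟨ϖ, hϖ⟩ := IsDiscreteValuationRing.exists_irreducible R
  have hm := hϖ.maximalIdeal_eq
  haveI := S.noeth
  obtain ⟨t, htp, htmap, htpi⟩ := S.exists_prime_transversal hm hϖ.ne_zero hj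
  let x := iotaC (Γ i) y
  haveI := S.isDomain_stalk x
  haveI : (Ideal.span {t}).IsPrime := (Ideal.span_singleton_prime htp.ne_zero).2 htp
  obtain ⟨ξ, hξx, hξ⟩ := H23.StalkPrimes.exists_point (Ideal.span {t})
  have hξF : ξ ∉ Models.specialFibreSet R (Over.mk p) := by
    rw [← isUnit_pi_iff p hm, not_not]
    by_contra hu
    apply htpi
    rw [← hξ, CDiv6.mem_primeOf]
    convert hu using 2
    exact congrArg (fun f => f.hom (Coh.toGlobal p ϖ)) (X.presheaf.germ_stalkSpecializes (Opens.mem_top x) hξx)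
  obtain ⟨Z, ι, _, _, hgen⟩ := MdlHoriz.exists_integral_closed ξ
  have hx : x ∈ Models.specialFibreSet R (Over.mk p) := by
    have hr : Set.range ((Γ i).ι.base : (Γ i).curve.left → X) ∈ Models.fibreComponents R (Over.mk p) :=
      S.list.2 ▸ ⟨i, rfl⟩
    exact hr.1.2 ⟨y, rfl⟩
  have hgp : ∀ j, ¬ ξ ⤳ gp Γ j := by
    intro j h
    obtain ⟨U, hU⟩ := exists_affine (gp Γ j)
    haveI := S.isDomain_stalk (gp Γ j)
    obtain ⟨r, hr0, hr⟩ := S.exists_span hm hϖ.ne_zero U hU j
    rw [S.stI_comp_gp U j j, if_pos rfl] at hr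
    haveI := S.reg (gp Γ j)
    have hne : (CDiv6.primeOf h).asIdeal ≠ IsLocalRing.maximalIdeal _ := by
      intro he
      have h2 : ξ = gp Γ j := H23.StalkPrimes.primeOf_inj h specializes_rfl (he.trans (by
        ext g
        rw [CDiv6.mem_primeOf, IsLocalRing.mem_maximalIdeal, mem_nonunits_iff, TopCat.Presheaf.stalkSpecializes_refl]
        rfl))
      exact hξF (h2 ▸ S.gp_mem j)
    have hbot : (CDiv6.primeOf h).asIdeal = ⊥ := by
      haveI hP : (CDiv6.primeOf h).asIdeal.IsPrime := (CDiv6.primeOf h).2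
      have hrP : r ∉ (CDiv6.primeOf h).asIdeal := fun hrP => hne (le_antisymm
        (IsLocalRing.le_maximalIdeal hP.ne_top) (by rw [hr, Ideal.span_le, Set.singleton_subset_iff]; exact hrP))
      refine Submodule.eq_bot_of_le_smul_of_le_jacobson_bot (IsLocalRing.maximalIdeal _) _
        (IsNoetherian.noetherian _) (fun q hq => ?_) (IsLocalRing.maximalIdeal_le_jacobson _)
      have hq' : q ∈ IsLocalRing.maximalIdeal _ := IsLocalRing.le_maximalIdeal hP.ne_top hq
      rw [hr, Ideal.mem_span_singleton] at hq'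
      obtain ⟨a, rfl⟩ := hq'
      exact Ideal.mul_mem_mul (hr ▸ Ideal.mem_span_singleton_self r) ((hP.mem_or_mem hq).resolve_left hrP)
    have hmax : IsLocalRing.maximalIdeal (X.presheaf.stalk ξ) = ⊥ := by
      rw [maximalIdeal_eq_map h, hbot, Ideal.map_bot]
    refine htp.ne_zero (S.injective_specializes hξx ?_)
    rw [map_zero]
    have hm' : (X.presheaf.stalkSpecializes hξx).hom t ∈ IsLocalRing.maximalIdeal (X.presheaf.stalk ξ) := by
      rw [maximalIdeal_eq_map hξx, hξ]
      exact Ideal.mem_map_of_mem _ (Ideal.mem_span_singleton_self t)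
    rw [hmax] at hm'
    exact (Submodule.mem_bot _).1 hm' 
  haveI : IsProper (ι ≫ p) := inferInstance
  have hfin : ((ι ≫ p) ⁻¹' {IsLocalRing.closedPoint R}).Finite := by
    have hfin' : (⋃ j, iotaC (Γ j) '' (iotaC (Γ j) ⁻¹' Set.range ι)).Finite := Set.finite_iUnion fun j =>
      (closed_preimage_finite (Γ j) (ι.isClosedEmbedding.isClosed_range.preimage (iotaC (Γ j)).continuous)
        fun h => hgp j (hgen ▸ (mem_range_iff ι).1 h)).image _
    refine Set.Finite.of_finite_image (hfin'.subset ?_) ι.isClosedEmbedding.injective.injOn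
    rintro _ ⟨z, hz, rfl⟩
    obtain ⟨j, hjz⟩ := S.exists_gp (show ι z ∈ Models.specialFibreSet R (Over.mk p) from hz)
    obtain ⟨w, hw⟩ := (mem_range_iff (iotaC (Γ j))).2 hjz
    exact Set.mem_iUnion.2 ⟨j, w, ⟨z, hw.symm⟩, hw⟩
  have hgenp : (ι ≫ p) (genericPoint Z) ≠ IsLocalRing.closedPoint R := fun h =>
    hξF (hgen ▸ (show gen ι ∈ Models.specialFibreSet R (Over.mk p) from h))
  obtain ⟨z₀, -, hall⟩ := MdlHoriz.exists_two_points (ι ≫ p) hfin hgenp
  have hsupp : ∀ z : X, z ∈ Set.range ι → z = ξ ∨ z = x := by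
    intro z hz
    obtain ⟨x', hx'⟩ := (mem_range_iff ι).2 (hgen.symm ▸ hξx : gen ι ⤳ x)
    obtain ⟨w, rfl⟩ := hz
    rcases hall w with rfl | rfl
    · exact Or.inl hgen
    · rcases hall x' with rfl | rfl
      · exact absurd (hx'.symm.trans hgen) fun h => hξF (h ▸ hx)
      · exact Or.inr hx'
  have hsup : ∀ z : X, z ∈ ι.ker.support → z = ξ ∨ z = x := fun z hz => hsupp z (by
    rw [← SetLike.mem_coe, Scheme.Hom.support_ker] at hz
    exact ι.isClosedEmbedding.isClosed_range.closure_subset hz)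
  have hstx : ∀ (U : X.affineOpens) (hU : x ∈ U.1), stI ι.ker U hU = Ideal.span {t} := by
    intro U hU
    rw [← hξ]
    subst hgen
    rw [stI_of_specializes ι U hU hξx]
    rfl
  refine ⟨ι.ker, S1570.result X _ fun z hz U hzU => ?_, fun j hji => ?_, ?_⟩
  · rcases hsup z hz with rfl | rfl
    · haveI := S.isDomain_stalk z
      refine ⟨X.presheaf.stalkSpecializes hξx t, mem_nonZeroDivisors_of_ne_zero fun h0 =>
        htp.ne_zero (S.injective_specializes hξx (h0.trans (map_zero _).symm)), ?_⟩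
      have h1 : stI ι.ker U hzU = IsLocalRing.maximalIdeal _ := by
        subst hgen
        exact stI_gen ι U hzU
      refine h1.trans ?_
      rw [maximalIdeal_eq_map hξx, hξ, Ideal.map_span, Set.image_singleton]
    · exact ⟨t, mem_nonZeroDivisors_of_ne_zero htp.ne_zero, hstx U hzU⟩
  · rw [← Scheme.IdealSheafData.support_eq_bot_iff, Scheme.IdealSheafData.support_comap]
    ext w
    simp only [TopologicalSpace.Closeds.coe_preimage, Set.mem_preimage, TopologicalSpace.Closeds.coe_bot,
      Set.mem_empty_iff_false, iff_false]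
    intro hw
    rcases hsup _ hw with h | h
    · refine hξF (h ▸ ?_)
      have hr : Set.range ((Γ j).ι.base : (Γ j).curve.left → X) ∈ Models.fibreComponents R (Over.mk p) :=
        S.list.2 ▸ ⟨j, rfl⟩
      exact hr.1.2 ⟨w, rfl⟩
    · exact hji (hj j ((mem_range_iff (iotaC (Γ j))).1 ⟨w, h⟩))
  · refine ext_stI fun V w hw => ?_
    obtain ⟨U, hU⟩ := exists_affine (iotaC (Γ i) w)
    obtain ⟨_, ⟨W, hW, rfl⟩, hwW, hle⟩ := (Γ i).curve.left.isBasis_affineOpens.exists_subset_of_mem_open
      (show w ∈ ((V.1 ⊓ iotaC (Γ i) ⁻¹ᵁ U.1 : (Γ i).curve.left.Opens) : Set _) from ⟨hw, hU⟩) (V.1 ⊓ _).2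
    have e1 : ∀ J : (Γ i).curve.left.IdealSheafData, stI J V hw = stI J ⟨W, hW⟩ hwW := fun J => by
      rw [stI, stI, ← J.map_ideal (V := V) (U := ⟨W, hW⟩) (fun z hz => (hle hz).1), Ideal.map_map]
      congr 1
      exact congrArg CommRingCat.Hom.hom ((Γ i).curve.left.presheaf.germ_res
        (homOfLE (fun z hz => (hle hz).1 : W ≤ V.1)) w hwW).symm
    rw [e1, e1, MdlHoriz.stI_comap _ _ U ⟨W, hW⟩ (fun z hz => (hle hz).2) hwW]
    by_cases hwy : w = y
    · subst hwy
      rw [hstx, htmap, MdlHoriz.stI_ptIdeal_self]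
    · rw [MdlHoriz.stI_of_not_mem_support (CurvePoint.ptIdeal y hyc) _ _ hwy,
        MdlHoriz.stI_of_not_mem_support, Ideal.map_top]
      intro hmem
      rcases hsup _ hmem with h | h
      · refine hξF (h ▸ ?_)
        have hr : Set.range ((Γ i).ι.base : (Γ i).curve.left → X) ∈ Models.fibreComponents R (Over.mk p) :=
          S.list.2 ▸ ⟨i, rfl⟩
        exact hr.1.2 ⟨w, rfl⟩
      · exact hwy ((iotaC (Γ i)).isClosedEmbedding.injective h)

theorem exists_inter_eq_ite [IsProper p] [IsAdicComplete (IsLocalRing.maximalIdeal R) R]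
    [IsAlgClosed (IsLocalRing.ResidueField R)] (i : Fin n) :
    ∃ M : X.Modules, PicF.IsInvertible M ∧
      ∀ j : Fin n, ArSurf.inter R (Over.mk p) M (Γ j) = if j = i then 1 else 0 := by
  obtain ⟨y, hyc, hdvr, hy⟩ := S.exists_point_on i
  obtain ⟨D, hD, hDj, hDi⟩ := S.exists_horizontal hyc hy
  obtain ⟨M, hM, ⟨e⟩⟩ := H23.PicInv.exists_inverse ((S8914.result _).2 hD)
  refine ⟨M, hM, fun j => ?_⟩
  have hMD : PicF.cl M * PicF.cl (ClSub.idealMod D) = 1 := by
    rw [mul_comm, ← cl_tensor, H23.PicMul.one_def]; exact cl_eq_iff.2 ⟨e⟩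
  let ι := iotaC (Γ j)
  haveI : IsProper ((Γ j).curve.left ↘ Spec (CommRingCat.of (IsLocalRing.ResidueField R))) := isProper_curve (Γ j)
  have hDc : BlowUp.IsEffCartierIdeal (D.comap ι) := by
    refine S8862.result ι _ hD fun z hz hmem => ?_
    have hz' := hz (genericPoint _) (genericPoint_specializes z)
    have h2 : genericPoint (Γ j).curve.left ∈ (D.comap ι).support := by
      rw [← SetLike.mem_coe, Scheme.IdealSheafData.support_comap]
      exact hz'.symm ▸ hmem
    by_cases hji : j = i
    · subst hji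
      rw [hDi] at h2
      have hgy : genericPoint (Γ j).curve.left = y := h2
      have h3 := (SmoothReg.ringKrullDim_stalk_closedPoint
        ((Γ j).curve.left ↘ Spec (CommRingCat.of (IsLocalRing.ResidueField R))) hyc)
      have hall : ∀ w : (Γ j).curve.left, w = y := fun w =>
        Set.mem_singleton_iff.1 ((hgy ▸ genericPoint_specializes w).mem_closed hyc (Set.mem_singleton _))
      haveI : Subsingleton (IrreducibleCloseds (Γ j).curve.left) := ⟨fun a b => by
        have key : ∀ (a : IrreducibleCloseds (Γ j).curve.left), (a : Set (Γ j).curve.left) = Set.univ := fun a => by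
          obtain ⟨z, hz⟩ := a.isIrreducible.nonempty
          refine Set.eq_univ_of_forall fun w => ?_
          rw [hall w, ← hall z]
          exact hz
        exact IrreducibleCloseds.ext ((key a).trans (key b).symm)⟩
      have : topologicalKrullDim (Γ j).curve.left ≤ 0 := Order.krullDim_nonpos_of_subsingleton
      rw [(Γ j).dim_eq] at this
      exact absurd this (by norm_num)
    · rw [hDj j hji, Scheme.IdealSheafData.support_top] at h2
      exact h2
  obtain ⟨u⟩ := CurveAlgEqLib.nonempty_pullback_idealMod ι ((S8914.result _).2 hD) ((S8914.result _).2 hDc)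
  have hLD : ClSub.IsInverseOf ((Scheme.Modules.pullback ι).obj M) (ClSub.idealMod (D.comap ι)) := by
    refine cl_eq_iff.1 ?_
    rw [cl_tensor, ← H23.PicMul.one_def, ← cl_eq_iff.2 ⟨u⟩]
    have h := congrArg (pullHom ι) hMD
    rw [map_mul, map_one] at h
    exact h
  have hMi := PicClLib.isInvertible_pullback ι hM
  haveI : IsProper ((Γ j).curve.left ↘ Spec (CommRingCat.of (IsLocalRing.ResidueField R))) := isProper_curve (Γ j)
  by_cases hji : j = i
  · subst hji
    rw [if_pos rfl]
    exact curveDeg_point (Γ j) hyc hDc hDi hMi hLD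
  · rw [if_neg hji]
    obtain ⟨-, hdeg⟩ := curveDeg_divisor (IsLocalRing.ResidueField R) (Γ j).dim_eq hDc hMi hLD
    refine hdeg.trans ?_
    rw [hDj j hji, finrank_quotMod', fdim]
    haveI : IsEmpty (⊤ : (Γ j).curve.left.IdealSheafData).subscheme := by
      refine ⟨fun w => ?_⟩
      have hr := (⊤ : (Γ j).curve.left.IdealSheafData).range_subschemeι.le ⟨w, rfl⟩
      rw [Scheme.IdealSheafData.support_top] at hr
      exact hr
    letI : (⊤ : (Γ j).curve.left.IdealSheafData).subscheme.Over
        (Spec (CommRingCat.of (IsLocalRing.ResidueField R))) :=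
      ⟨(⊤ : (Γ j).curve.left.IdealSheafData).subschemeι ≫ ((Γ j).curve.left ↘ Spec (CommRingCat.of (IsLocalRing.ResidueField R)))⟩
    letI := GeomField.globalAlgebra (IsLocalRing.ResidueField R) (⊤ : (Γ j).curve.left.IdealSheafData).subscheme
    exact_mod_cast Module.finrank_zero_of_subsingleton

end Setting

end Groth.Agent.MdlInter
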