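import Groth.Agent.MdlHoriz.Divisible
import Groth.Agent.MdlHoriz.DimFib
import Groth.Agent.Snapper.DimVanish
import Groth.Agent.IntSym.Bridge
import Groth.Agent.S11763

/-!
# The kernel of restriction to the closed fibre
-/

set_option linter.style.haveILetI false
set_option linter.unusedSectionVars false
set_option backward.isDefEq.respectTransparency false
set_option backward.isDefEq.respectTransparency.types false
set_option maxHeartbeats 1000000

universe u

open CategoryTheory CategoryTheory.Limits AlgebraicGeometry TopologicalSpace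
open Groth.Agent.H23.PicMul
open scoped Groth.Agent.H23.PicMul

noncomputable section

namespace Groth.Agent.MdlHoriz

open Groth.Agent Groth.Agent.MdlInter

variable {R : Type u} [CommRing R] [IsDomain R] [IsDiscreteValuationRing R]
  {C X : Scheme.{u}} {f : C ⟶ Spec (CommRingCat.of (FractionRing R))} {p : X ⟶ Spec (CommRingCat.of R)}

/-- The inclusion of the closed fibre. -/
abbrev fibι (p : X ⟶ Spec (CommRingCat.of R)) :
    pullback p (Spec.map (CommRingCat.ofHom (IsLocalRing.residue R))) ⟶ X :=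
  pullback.fst p (Spec.map (CommRingCat.ofHom (IsLocalRing.residue R)))

theorem subsingleton_HH_two (hX : Models.IsRegularProperModel R X p C f) (hdim : topologicalKrullDim C = 1) :
    Subsingleton (Coh.HH (pullback p (Spec.map (CommRingCat.ofHom (IsLocalRing.residue R)))) (Coh.structureModule _) 2) := by
  obtain ⟨⟨hflat, -, -, g, hg⟩, hproper, hreg⟩ := hX
  haveI := hflat; haveI := hproper
  let Z := pullback p (Spec.map (CommRingCat.ofHom (IsLocalRing.residue R)))
  letI : Z.Over (Spec (CommRingCat.of (IsLocalRing.ResidueField R))) := ⟨pullback.snd p _⟩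
  haveI : IsProper (Z ↘ Spec (CommRingCat.of (IsLocalRing.ResidueField R))) :=
    MorphismProperty.pullback_snd (P := @IsProper) p _ hproper
  haveI : IsNoetherian Z := CurveCohLib.isNoetherian_of_proper (k := IsLocalRing.ResidueField R) (X := Z)
  haveI : Z.IsSeparated := AmpleVan.isSeparated_of_proper (A := IsLocalRing.ResidueField R)
  have hd : topologicalKrullDim Z ≤ ((1 : ℕ) : WithBot ℕ∞) := by
    rw [Nat.cast_one]
    exact (topologicalKrullDim_specialFibre_le g hg).trans hdim.le
  exact Snapper.subsingleton_HH_of_dim_le hd QCoh.isQCoh_structureModule (by norm_num)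

theorem hchar_of_ne_zero {q : ℕ} (hqk : (q : IsLocalRing.ResidueField R) ≠ 0) :
    ∀ r : ℕ, r.Prime → CharP (IsLocalRing.ResidueField R) r → ¬ r ∣ q := fun r _ hc hdvd => by
  haveI := hc
  exact hqk ((CharP.cast_eq_zero_iff (IsLocalRing.ResidueField R) r q).2 hdvd)

theorem isUnit_natCast {q : ℕ} (hqk : (q : IsLocalRing.ResidueField R) ≠ 0) : IsUnit (q : R) := by
  rw [← IsLocalRing.notMem_maximalIdeal, ← IsLocalRing.residue_eq_zero_iff, map_natCast]
  exact hqk

/-- Torsion classes trivial on the closed fibre are trivial. -/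
theorem eq_one_of_torsion (hH0 : IsIso f.appTop) (hX : Models.IsRegularProperModel R X p C f) {q : ℕ} (hq : 1 ≤ q)
    (hqk : (q : IsLocalRing.ResidueField R) ≠ 0) {c : PicF.Cl X} (hc : PicF.IsInvertibleCl c) (hcq : c ^ q = 1)
    (hc0 : H23.PicMul.pullHom (fibι p) c = 1) : c = 1 := by
  obtain ⟨M, rfl, hM⟩ := hc
  obtain ⟨z, -, -, hz⟩ := exists_lift_redFib (p := p) _ IsLocalRing.residue_surjective range_specResidue
  rw [H23.PicMul.one_def]
  refine cl_eq_iff.2 (trivial_of_redFib hH0 hX q hq (hchar_of_ne_zero hqk) M hM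
    (cl_eq_iff.1 (by rw [cl_tensorPow, hcq, H23.PicMul.one_def])) (cl_eq_iff.1 ?_))
  show PicF.pullCl (redFibι p) (PicF.cl M) = _
  rw [← hz, PicLoc.pullCl_comp]
  show H23.PicMul.pullHom z (H23.PicMul.pullHom (fibι p) (PicF.cl M)) = _
  rw [hc0, map_one, H23.PicMul.one_def]

theorem surjective_restrict [IsAdicComplete (IsLocalRing.maximalIdeal R) R]
    (hX : Models.IsRegularProperModel R X p C f) (hdim : topologicalKrullDim C = 1)
    [PicGrp.Law X] [PicGrp.Law (pullback p (Spec.map (CommRingCat.ofHom (IsLocalRing.residue R))))]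
    (hi : PicGrp.PullMul (fibι p)) : Function.Surjective (PicGrp.pullHom (fibι p) hi) := by
  haveI := hX.2.1
  haveI := hX.1.1
  intro d
  obtain ⟨N, hN, rfl⟩ := PicGrp.exists_eq_cls d
  obtain ⟨L, hL, e⟩ := S11763.result R p (subsingleton_HH_two hX hdim) N hN
  exact ⟨PicGrp.cls L hL, Subtype.ext (cl_eq_iff.2 e)⟩

theorem picVal_pow {Y : Scheme.{u}} [PicGrp.Law Y] (z : PicLoc.PicSet Y) (n : ℕ) : (z ^ n).1 = z.1 ^ n := by
  induction n with
  | zero => rw [pow_zero, pow_zero, PicGrp.one_val]; rfl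
  | succ n ih => rw [pow_succ, pow_succ, PicGrp.mul_val, ih]; rfl

/-- The kernel of restriction to the closed fibre is uniquely divisible. -/
theorem existsUnique_root [IsAdicComplete (IsLocalRing.maximalIdeal R) R] (hH0 : IsIso f.appTop)
    (hX : Models.IsRegularProperModel R X p C f) (hdim : topologicalKrullDim C = 1) {q : ℕ} (hq : 1 ≤ q)
    (hqk : (q : IsLocalRing.ResidueField R) ≠ 0)
    [PicGrp.Law X] [PicGrp.Law (pullback p (Spec.map (CommRingCat.ofHom (IsLocalRing.residue R))))]
    (hi : PicGrp.PullMul (fibι p)) (c : PicLoc.PicSet X) (hc : c ∈ (PicGrp.pullHom (fibι p) hi).ker) :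
    ∃! d : PicLoc.PicSet X, d ∈ (PicGrp.pullHom (fibι p) hi).ker ∧ d ^ q = c := by
  haveI := hX.2.1
  haveI := hX.1.1
  have hker : ∀ z : PicLoc.PicSet X, z ∈ (PicGrp.pullHom (fibι p) hi).ker →
      H23.PicMul.pullHom (fibι p) z.1 = 1 := fun z hz =>
    ((congrArg (fun w : PicLoc.PicSet (pullback p (Spec.map (CommRingCat.ofHom (IsLocalRing.residue R)))) => w.1)
      (MonoidHom.mem_ker.1 hz)).trans (PicGrp.one_val (Y := pullback p _))).trans H23.PicMul.one_def.symm
  obtain ⟨d, hd, hdq, hd0⟩ := exists_root p (subsingleton_HH_two hX hdim) q (isUnit_natCast hqk) c.2 (hker c hc)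
  let D : PicLoc.PicSet X := ⟨d, hd⟩
  have hD : D ∈ (PicGrp.pullHom (fibι p) hi).ker := Subtype.ext (hd0.trans (H23.PicMul.one_def.trans PicGrp.one_val.symm))
  have hDq : D ^ q = c := Subtype.ext (by rw [picVal_pow]; exact hdq)
  refine ⟨D, ⟨hD, hDq⟩, ?_⟩
  rintro y ⟨hy, hyq⟩
  rw [← div_eq_one]
  refine Subtype.ext ((eq_one_of_torsion hH0 hX hq hqk (y / D).2 ?_ (hker _ (div_mem hy hD))).trans
    (H23.PicMul.one_def.trans PicGrp.one_val.symm))
  rw [← picVal_pow, div_pow, hyq, hDq, div_self', PicGrp.one_val, H23.PicMul.one_def]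

end Groth.Agent.MdlHoriz
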