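import Groth.Agent.MdlHoriz.Horiz
import Groth.Agent.InvUfdLib.Pushforward
import Groth.Agent.RegUFD.Basic
import Groth.Agent.GeomField.GlobalFunctions

/-!
# The Picard group of the generic fibre and the component group
-/

set_option linter.style.haveILetI false
set_option linter.unusedSectionVars false
set_option backward.isDefEq.respectTransparency false
set_option backward.isDefEq.respectTransparency.types false
set_option maxHeartbeats 1000000

universe u

open CategoryTheory CategoryTheory.Limits AlgebraicGeometry TopologicalSpace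
open Groth.Agent.H23.PicMul
open scoped Groth.Agent.H23.PicMul

noncomputable section

namespace Groth.Agent.MdlInter

open Groth.Agent

theorem isIso_appTop_of_hRank {K : Type u} [Field K] {C : Scheme.{u}} (f : C ⟶ Spec (CommRingCat.of K))
    (h : Models.hRank K C f (Coh.structureModule C) 0 = 1) : IsIso f.appTop := by
  letI : C.Over (Spec (CommRingCat.of K)) := ⟨f⟩
  letI := GeomField.globalAlgebra K C
  have h1 : Module.finrank K Γ(C, ⊤) = 1 := by
    rw [← GeomField.finrank_HH_zero K C]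
    exact h
  haveI : Nontrivial Γ(C, ⊤) := Module.nontrivial_of_finrank_pos (R := K) (by omega)
  have hb : Function.Bijective (algebraMap K Γ(C, ⊤)) := by
    refine ⟨(algebraMap K Γ(C, ⊤)).injective, fun s => ?_⟩
    obtain ⟨c, hc⟩ := (finrank_eq_one_iff_of_nonzero' (1 : Γ(C, ⊤)) one_ne_zero).1 h1 s
    exact ⟨c, by rw [← hc, Algebra.smul_def, mul_one]⟩
  rw [ConcreteCategory.isIso_iff_bijective]
  have he := ConcreteCategory.bijective_of_isIso (Scheme.ΓSpecIso (CommRingCat.of K)).inv
  exact (Function.Bijective.of_comp_iff _ he).1 hb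

variable {R : Type u} [CommRing R] [IsDomain R] [IsDiscreteValuationRing R]
  {C X : Scheme.{u}} {f : C ⟶ Spec (CommRingCat.of (FractionRing R))} {p : X ⟶ Spec (CommRingCat.of R)}

/-- Every invertible module on the generic fibre extends to the regular model. -/
theorem exists_extension_generic (hX : Models.IsRegularProperModel R X p C f) (g : C ⟶ X)
    (hg : IsPullback g f p (Spec.map (CommRingCat.ofHom (algebraMap R (FractionRing R)))))
    {N : C.Modules} (hN : PicF.IsInvertible N) :
    ∃ L : X.Modules, PicF.IsInvertible L ∧ Nonempty ((Scheme.Modules.pullback g).obj L ≅ N) := by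
  haveI := hX.1.2.1
  haveI : IsLocallyNoetherian X := LocallyOfFiniteType.isLocallyNoetherian p
  obtain ⟨ϖ, hϖ⟩ := IsDiscreteValuationRing.exists_irreducible R
  haveI hloc : IsLocalization.Away ϖ (FractionRing R) := by
    refine ⟨?_, fun z => ?_, fun {a b} h => ⟨1, by rw [IsFractionRing.injective R (FractionRing R) h]⟩⟩
    · rintro ⟨_, k, rfl⟩
      exact IsUnit.mk0 _ ((map_ne_zero_iff _ (IsFractionRing.injective R (FractionRing R))).2 (pow_ne_zero k hϖ.ne_zero))
    · obtain ⟨⟨a, s, hs⟩, hz⟩ := IsLocalization.surj (nonZeroDivisors R) z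
      obtain ⟨k, u, rfl⟩ := IsDiscreteValuationRing.eq_unit_mul_pow_irreducible (nonZeroDivisors.ne_zero hs) hϖ
      refine ⟨⟨↑u⁻¹ * a, ϖ ^ k, k, rfl⟩, ?_⟩
      show z * algebraMap R _ (ϖ ^ k) = algebraMap R _ (↑u⁻¹ * a)
      rw [map_mul, ← hz, mul_left_comm, ← map_mul, Units.inv_mul_cancel_left]
  haveI : IsOpenImmersion (Spec.map (CommRingCat.ofHom (algebraMap R (FractionRing R)))) :=
    IsOpenImmersion.of_isLocalization ϖ
  haveI : IsOpenImmersion g := MorphismProperty.of_isPullback hg.flip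
    (inferInstanceAs (IsOpenImmersion (Spec.map (CommRingCat.ofHom (algebraMap R (FractionRing R))))))
  let e : C ≅ g.opensRange.toScheme := g.isoOpensRange
  have he : e.hom ≫ g.opensRange.ι = g := Scheme.Hom.isoOpensRange_hom_ι g
  obtain ⟨L, hL, ⟨v⟩⟩ := InvUfdLib.exists_extension_of_ufd g.opensRange
    ((Scheme.Modules.pullback e.inv).obj N) (PicClLib.isInvertible_pullback e.inv hN) fun x _ => by
      haveI := hX.2.2 x
      exact (RegUFD.ufd _).2
  refine ⟨L, hL, cl_eq_iff.1 ?_⟩
  have h1 : PicF.pullCl g.opensRange.ι (PicF.cl L) = PicF.pullCl e.inv (PicF.cl N) :=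
    cl_eq_iff.2 ⟨((Scheme.Modules.restrictFunctorIsoPullback _).app L).symm ≪≫ v⟩
  show PicF.pullCl g (PicF.cl L) = PicF.cl N
  conv_lhs => rw [← he]
  rw [PicLoc.pullCl_comp, h1, ← PicLoc.pullCl_comp, e.hom_inv_id, PicLoc.pullCl_id]

variable {n : ℕ} {Γ : Fin n → ArSurf.VertComp R (Over.mk p)}

/-- The matrix of intersection numbers. -/
abbrev interMat (Γ : Fin n → ArSurf.VertComp R (Over.mk p)) (LD : Fin n → X.Modules) :
    Matrix (Fin n) (Fin n) ℤ :=
  Matrix.of fun j i => ArSurf.inter R (Over.mk p) (LD i) (Γ j)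

/-- The vector of degrees. -/
abbrev degVec (Γ : Fin n → ArSurf.VertComp R (Over.mk p)) (L : X.Modules) : Fin n → ℤ :=
  fun j => ArSurf.inter R (Over.mk p) L (Γ j)

theorem mulVec_interMat (LD : Fin n → X.Modules) (v : Fin n → ℤ) (j : Fin n) :
    Matrix.mulVecLin (interMat Γ LD) v j = ∑ i, v i * ArSurf.inter R (Over.mk p) (LD i) (Γ j) := by
  rw [Matrix.mulVecLin_apply, Matrix.mulVec, dotProduct]
  exact Finset.sum_congr rfl fun i _ => mul_comm _ _

theorem deg_sub_mem (hX : Models.IsRegularProperModel R X p C f) (hΓ : Models.IsComponentList R (Over.mk p) Γ)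
    (LD : Fin n → X.Modules) (hLD : ∀ i, ClSub.IsInverseOf (LD i) (ClSub.idealMod (comp Γ i)))
    (g : C ⟶ X) (hg : IsPullback g f p (Spec.map (CommRingCat.ofHom (algebraMap R (FractionRing R)))))
    {L L' : X.Modules} (hL : PicF.IsInvertible L) (hL' : PicF.IsInvertible L')
    (h : pullHom g (PicF.cl L) = pullHom g (PicF.cl L')) :
    degVec Γ L - degVec Γ L' ∈ LinearMap.range (Matrix.mulVecLin (interMat Γ LD)) := by
  haveI := hX.2.1
  have S := setting_of_model hX hΓ
  obtain ⟨D, hD, ⟨eD⟩⟩ := H23.PicInv.exists_inverse hL'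
  have hLD' : PicF.cl L' * PicF.cl D = 1 := by
    rw [← cl_tensor, H23.PicMul.one_def]; exact cl_eq_iff.2 ⟨eD⟩
  obtain ⟨v, hv⟩ := S.exists_comboCl LD hLD g hg (InvX.isInvertible_tensorMod hL hD) (cl_eq_iff.1 (by
    show pullHom g (PicF.cl (CohB1.tensorMod L D)) = _
    rw [cl_tensor, map_mul, h, ← map_mul, hLD', map_one, H23.PicMul.one_def]))
  refine ⟨v, funext fun j => ?_⟩
  have h2 := S.inter_eq LD hLD hL hL' v (by
    rw [← hv, cl_tensor, mul_left_comm, hLD', mul_one]) j
  rw [mulVec_interMat, Pi.sub_apply]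
  show _ = ArSurf.inter R (Over.mk p) L (Γ j) - ArSurf.inter R (Over.mk p) L' (Γ j)
  rw [h2, add_sub_cancel_left]

theorem cls_eq_one_of_deg_zero (hH0 : IsIso f.appTop)
    (hX : Models.IsRegularProperModel R X p C f) (hΓ : Models.IsComponentList R (Over.mk p) Γ)
    (hgcd : Models.multGcd R (Over.mk p) Γ = 1)
    (LD : Fin n → X.Modules) (hLD : ∀ i, ClSub.IsInverseOf (LD i) (ClSub.idealMod (comp Γ i)))
    (g : C ⟶ X) (hg : IsPullback g f p (Spec.map (CommRingCat.ofHom (algebraMap R (FractionRing R)))))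
    {L : X.Modules} (hL : PicF.IsInvertible L) (hdeg : ∀ j, ArSurf.inter R (Over.mk p) L (Γ j) = 0)
    (h : pullHom g (PicF.cl L) = 1) : PicF.cl L = 1 := by
  haveI := hX.2.1
  have S := setting_of_model hX hΓ
  obtain ⟨v, hv⟩ := S.exists_comboCl LD hLD g hg hL (cl_eq_iff.1 (h.trans H23.PicMul.one_def))
  obtain ⟨t, ht⟩ := S.ker_inter LD hLD hH0 hX v fun i => by
    have h1 := S.inter_eq LD hLD hL CurveDeg.isInvertible_structureModule v
      (by rw [← H23.PicMul.one_def, one_mul, hv]) i
    rw [hdeg i, inter_structure, zero_add] at h1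
    exact h1.symm
  rw [hv, (S.comboCl_eq_one_iff LD hLD (bijective_toGlobal hH0 hX) v).2 ⟨t, fun i => by
    rw [ht i, Setting.mult_eq, hgcd, Nat.cast_one, one_mul]⟩, Units.val_one]

end Groth.Agent.MdlInter
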